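import Groth.Agent.Lib.Helper6.UncPts.Sch

set_option linter.unusedSectionVars false
set_option linter.unusedVariables false
set_option linter.unusedSimpArgs false
set_option autoImplicit false
set_option linter.style.haveILetI false
set_option maxHeartbeats 400000

noncomputable section

namespace Groth.Agent.Lib.Helper6.UncPts

open AlgebraicGeometry CategoryTheory TopologicalSpace

universe u

/-- No strictly decreasing sequence of primes in a Noetherian ring. -/
theorem not_strictAnti_primeSpectrum {A : Type*} [CommRing A] [IsNoetherianRing A]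
    (P : ℕ → PrimeSpectrum A) (hP : StrictAnti P) : False := by
  have hfin : ∀ i, Order.height (P i) < ⊤ := by
    intro i
    rw [← PrimeSpectrum.height_eq_orderHeight]
    haveI := (P i).isPrime
    exact (Ideal.height_ne_top_of_isPrime).lt_top
  have hdec : ∀ i, Order.height (P (i + 1)) < Order.height (P i) := fun i =>
    Order.height_strictMono (hP (Nat.lt_succ_self i)) (hfin _)
  obtain ⟨n, hn⟩ := WellFounded.not_rel_apply_succ (r := ((· < ·) : ℕ∞ → ℕ∞ → Prop))
    (fun i => Order.height (P i))
  exact hn (hdec n)

/-- No strictly increasing sequence of irreducible closed subsets in a locally Noetherian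
scheme. -/
theorem not_strictMono_irreducible_closed (X : Scheme.{u}) [IsLocallyNoetherian X]
    (T : ℕ → Set X) (hirr : ∀ i, IsIrreducible (T i)) (hcl : ∀ i, IsClosed (T i))
    (hT : StrictMono T) : False := by
  have hgen : ∀ i, ∃ x, IsGenericPoint x (T i) := fun i => QuasiSober.sober (hirr i) (hcl i)
  choose ξ hξ using hgen
  have hξmem : ∀ i, ξ i ∈ T i := fun i => by
    rw [← (hξ i).def]
    exact subset_closure rfl
  have hspec : ∀ i j, i ≤ j → ξ j ⤳ ξ i := by
    intro i j hij
    rw [specializes_iff_mem_closure, (hξ j).def]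
    exact hT.monotone hij (hξmem i)
  obtain ⟨U, hU, hx₀U, -⟩ := exists_isAffineOpen_mem_and_subset (x := ξ 0) (U := ⊤) trivial
  haveI : IsNoetherianRing Γ(X, U) := IsLocallyNoetherian.component_noetherian ⟨U, hU⟩
  have hemb : Topology.IsOpenEmbedding hU.fromSpec := hU.fromSpec.isOpenEmbedding
  have hrange : Set.range hU.fromSpec = U := hU.range_fromSpec
  have hmemU : ∀ i, ξ i ∈ (U : Set X) := fun i =>
    (hspec 0 i (Nat.zero_le i)).mem_open U.isOpen hx₀U
  have hy : ∀ i, ∃ y : PrimeSpectrum Γ(X, U), hU.fromSpec y = ξ i := by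
    intro i
    have : ξ i ∈ Set.range hU.fromSpec := by rw [hrange]; exact hmemU i
    exact this
  choose y hy using hy
  refine not_strictAnti_primeSpectrum y (strictAnti_nat_of_succ_lt fun i => ?_)
  have hle : y (i + 1) ≤ y i := by
    rw [PrimeSpectrum.le_iff_specializes]
    have := hspec i (i + 1) (Nat.le_succ i)
    rw [← hy i, ← hy (i + 1)] at this
    exact (hemb.isInducing.specializes_iff).1 this
  refine lt_of_le_of_ne hle fun heq => ?_
  have h1 : ξ (i + 1) = ξ i := by rw [← hy i, ← hy (i + 1), heq]
  have h2 : T (i + 1) = T i := by rw [← (hξ i).def, ← (hξ (i + 1)).def, h1]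
  exact (hT (Nat.lt_succ_self i)).ne h2.symm

end Groth.Agent.Lib.Helper6.UncPts
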