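import Mathlib

set_option linter.unusedSectionVars false
set_option linter.unusedVariables false
set_option linter.unusedSimpArgs false
set_option autoImplicit false
set_option linter.style.haveILetI false
set_option maxHeartbeats 400000

noncomputable section

namespace Groth.Agent.Lib.Helper6.UncPts

open MvPolynomial

/-- Countably many nonzero univariate polynomials over an uncountable field have a common
non-root. -/
theorem exists_eval_ne_zero_poly {k : Type*} [Field k] [Uncountable k]
    (p : ℕ → Polynomial k) (hp : ∀ n, p n ≠ 0) : ∃ t : k, ∀ n, (p n).eval t ≠ 0 := by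
  classical
  have hc : (⋃ n, ((p n).roots.toFinset : Set k)).Countable :=
    Set.countable_iUnion fun n => (Finset.finite_toSet _).countable
  have hne : (⋃ n, ((p n).roots.toFinset : Set k)) ≠ Set.univ := by
    intro h
    rw [h] at hc
    exact Set.not_countable_univ hc
  obtain ⟨t, ht⟩ := (Set.ne_univ_iff_exists_notMem _).1 hne
  refine ⟨t, fun n h0 => ht ?_⟩
  refine Set.mem_iUnion.2 ⟨n, ?_⟩
  simp only [Finset.mem_coe, Multiset.mem_toFinset]
  exact (Polynomial.mem_roots (hp n)).2 h0

/-- Countably many nonzero multivariate polynomials over an uncountable field have a common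
non-root. -/
theorem exists_eval_ne_zero {k : Type*} [Field k] [Uncountable k] :
    ∀ (s : ℕ) (p : ℕ → MvPolynomial (Fin s) k), (∀ n, p n ≠ 0) →
      ∃ a : Fin s → k, ∀ n, eval a (p n) ≠ 0 := by
  intro s
  induction s with
  | zero =>
    intro p hp
    refine ⟨fun i => i.elim0, fun n h0 => hp n ?_⟩
    have h1 := MvPolynomial.eq_C_of_isEmpty (p n)
    rw [h1] at h0 ⊢
    rw [eval_C] at h0
    rw [h0, C_0]
  | succ s ih =>
    intro p hp
    have hq : ∀ n, finSuccEquiv k s (p n) ≠ 0 := fun n h0 =>
      hp n ((finSuccEquiv k s).injective (by rw [h0, map_zero]))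
    have hc : ∀ n, (finSuccEquiv k s (p n)).leadingCoeff ≠ 0 := fun n =>
      Polynomial.leadingCoeff_ne_zero.2 (hq n)
    obtain ⟨a', ha'⟩ := ih (fun n => (finSuccEquiv k s (p n)).leadingCoeff) hc
    have hr : ∀ n, Polynomial.map (eval a') (finSuccEquiv k s (p n)) ≠ 0 := by
      intro n h0
      have := congrArg (fun r => Polynomial.coeff r (finSuccEquiv k s (p n)).natDegree) h0
      simp only [Polynomial.coeff_map, Polynomial.coeff_zero] at this
      exact ha' n this
    obtain ⟨t, ht⟩ := exists_eval_ne_zero_poly _ hr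
    refine ⟨Fin.cons t a', fun n => ?_⟩
    rw [eval_eq_eval_mv_eval']
    exact ht n

/-- In a domain of finite type over an uncountable field, countably many nonzero elements
are avoided by a common maximal ideal. -/
theorem exists_maximal_avoiding_domain {k A : Type*} [Field k] [Uncountable k] [CommRing A]
    [IsDomain A] [Algebra k A] [Algebra.FiniteType k A]
    (f : ℕ → A) (hf : ∀ n, f n ≠ 0) :
    ∃ m : Ideal A, m.IsMaximal ∧ ∀ n, f n ∉ m := by
  obtain ⟨s, g, ginj, gint⟩ := exists_integral_inj_algHom_of_fg k A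
  letI : Algebra (MvPolynomial (Fin s) k) A := g.toRingHom.toAlgebra
  have halg : ∀ r, algebraMap (MvPolynomial (Fin s) k) A r = g r := fun r => rfl
  haveI : Algebra.IsIntegral (MvPolynomial (Fin s) k) A := ⟨fun x => gint x⟩
  have hex : ∀ n, ∃ r : MvPolynomial (Fin s) k, r ≠ 0 ∧ g r ∈ Ideal.span {f n} := by
    intro n
    have h1 := Ideal.comap_ne_bot_of_integral_mem (R := MvPolynomial (Fin s) k)
      (I := Ideal.span {f n}) (hf n) (Ideal.subset_span rfl) (Algebra.IsIntegral.isIntegral _)
    obtain ⟨r, hr, hr0⟩ := Submodule.exists_mem_ne_zero_of_ne_bot h1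
    exact ⟨r, hr0, hr⟩
  choose r hr0 hr using hex
  obtain ⟨a, ha⟩ := exists_eval_ne_zero s r hr0
  let P : Ideal (MvPolynomial (Fin s) k) := RingHom.ker (eval a)
  haveI hPmax : P.IsMaximal := RingHom.ker_isMaximal_of_surjective (eval a) (fun c =>
    ⟨C c, eval_C _⟩)
  have hker : RingHom.ker (algebraMap (MvPolynomial (Fin s) k) A) ≤ P := by
    intro x hx
    have : x = 0 := ginj (by rw [map_zero]; exact hx)
    rw [this]
    exact zero_mem _
  obtain ⟨Q, hQmax, hQ⟩ := Ideal.exists_ideal_over_maximal_of_isIntegral P hker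
  refine ⟨Q, hQmax, fun n hn => ha n ?_⟩
  have h2 : g (r n) ∈ Q := by
    have : Ideal.span {f n} ≤ Q := (Ideal.span_singleton_le_iff_mem _).2 hn
    exact this (hr n)
  have h3 : r n ∈ Q.comap (algebraMap (MvPolynomial (Fin s) k) A) := h2
  rw [hQ] at h3
  exact h3

/-- Over an uncountable field: countably many elements outside a prime `P` of a finite type
algebra are avoided by a common maximal ideal containing `P`. -/
theorem exists_maximal_avoiding {k A : Type*} [Field k] [Uncountable k] [CommRing A]
    [Algebra k A] [Algebra.FiniteType k A]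
    (P : Ideal A) [P.IsPrime] (f : ℕ → A) (hf : ∀ n, f n ∉ P) :
    ∃ m : Ideal A, m.IsMaximal ∧ P ≤ m ∧ ∀ n, f n ∉ m := by
  haveI : Algebra.FiniteType k (A ⧸ P) :=
    Algebra.FiniteType.of_surjective (Ideal.Quotient.mkₐ k P) (Ideal.Quotient.mkₐ_surjective k P)
  obtain ⟨m, hm, hfm⟩ := exists_maximal_avoiding_domain (k := k) (A := A ⧸ P)
    (fun n => Ideal.Quotient.mk P (f n))
    (fun n h0 => hf n (Ideal.Quotient.eq_zero_iff_mem.1 h0))
  refine ⟨m.comap (Ideal.Quotient.mk P),
    Ideal.comap_isMaximal_of_surjective _ Ideal.Quotient.mk_surjective, ?_, fun n hn => hfm n hn⟩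
  intro x hx
  rw [Ideal.mem_comap, Ideal.Quotient.eq_zero_iff_mem.2 hx]
  exact zero_mem _

end Groth.Agent.Lib.Helper6.UncPts
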