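import Groth.Agent.Lib.Helper6.UncPts.ACC

set_option linter.unusedSectionVars false
set_option linter.unusedVariables false
set_option linter.unusedSimpArgs false
set_option autoImplicit false
set_option linter.style.haveILetI false
set_option maxHeartbeats 400000

noncomputable section

namespace Groth.Agent.Lib.Helper6.UncPts

open AlgebraicGeometry CategoryTheory TopologicalSpace

universe u

section Existence

variable (X : Scheme.{u}) [IsNoetherian X] (Z : ℕ → Closeds X)

/-- the irreducible closed subsets contained in some `Z n` -/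
def Cset : Set (Closeds X) := {T | IsIrreducible (T : Set X) ∧ ∃ n, T ≤ Z n}

/-- the maximal ones -/
def Sset : Set (Closeds X) := {T | T ∈ Cset X Z ∧ ∀ T' ∈ Cset X Z, T ≤ T' → T' = T}

theorem exists_le_mem_Sset (T : Closeds X) (hT : T ∈ Cset X Z) :
    ∃ T' ∈ Sset X Z, T ≤ T' := by
  have hwf : WellFounded ((· > ·) : Cset X Z → Cset X Z → Prop) := by
    rw [RelEmbedding.wellFounded_iff_isEmpty]
    refine ⟨fun e => ?_⟩
    refine not_strictMono_irreducible_closed X (fun i => ((e i : Cset X Z) : Closeds X))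
      (fun i => (e i).2.1) (fun i => (e i).1.isClosed) ?_
    refine strictMono_nat_of_lt_succ fun i => ?_
    have h1 : (e (i + 1) : Cset X Z) > e i := e.map_rel_iff.2 (Nat.lt_succ_self i)
    exact h1
  obtain ⟨M, hM, hmin⟩ := hwf.has_min {T' : Cset X Z | T ≤ T'.1} ⟨⟨T, hT⟩, (le_refl T : T ≤ T)⟩
  refine ⟨M.1, ⟨M.2, fun T' hT' hle => ?_⟩, hM⟩
  by_contra hne
  have hlt : (⟨T', hT'⟩ : Cset X Z) > M := lt_of_le_of_ne hle (fun h => hne (congrArg Subtype.val h).symm)
  exact hmin ⟨T', hT'⟩ (le_trans hM hle) hlt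

theorem Sset_countable : (Sset X Z).Countable := by
  have hsub : Sset X Z ⊆ ⋃ n, {T | T ∈ Sset X Z ∧ T ≤ Z n} := by
    intro T hT
    obtain ⟨n, hn⟩ := hT.1.2
    exact Set.mem_iUnion.2 ⟨n, hT, hn⟩
  refine (Set.countable_iUnion fun n => ?_).mono hsub
  obtain ⟨F, hFfin, hFirr, hF⟩ := NoetherianSpace.exists_finite_set_closeds_irreducible (Z n)
  refine (hFfin.subset ?_).countable
  rintro T ⟨hTS, hTn⟩
  classical
  have h1 := (isIrreducible_iff_sUnion_isClosed.1 hTS.1.1)
    (hFfin.toFinset.image (fun W : Closeds X => (W : Set X))) (by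
      intro z hz
      simp only [Finset.mem_image, Set.Finite.mem_toFinset] at hz
      obtain ⟨W, -, rfl⟩ := hz
      exact W.isClosed) (by
      intro x hx
      have hx' : x ∈ (Z n : Set X) := hTn hx
      rw [hF] at hx'
      have hx'' : x ∈ ⋃ W ∈ F, (W : Set X) := by
        have hcl : IsClosed (⋃ W ∈ F, (W : Set X)) :=
          hFfin.isClosed_biUnion fun W _ => W.isClosed
        have hxc : x ∈ ((sSup F : Closeds X) : Set X) := hx'
        rw [Closeds.coe_sSup, Set.sUnion_image, hcl.closure_eq] at hxc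
        exact hxc
      simp only [Set.mem_iUnion] at hx''
      obtain ⟨W, hW, hxW⟩ := hx''
      refine Set.mem_sUnion.2 ⟨(W : Set X), ?_, hxW⟩
      simp only [Finset.coe_image, Set.mem_image, Finset.mem_coe, Set.Finite.mem_toFinset]
      exact ⟨W, hW, rfl⟩)
  obtain ⟨z, hz, hTz⟩ := h1
  simp only [Finset.mem_image, Set.Finite.mem_toFinset] at hz
  obtain ⟨W, hW, rfl⟩ := hz
  have hWC : W ∈ Cset X Z := ⟨hFirr W hW, n, by rw [hF]; exact le_sSup hW⟩
  have := hTS.2 W hWC hTz
  rw [← this]
  exact hW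

end Existence

end Groth.Agent.Lib.Helper6.UncPts
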