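import Groth.Agent.Lib.Helper6.UncPts.Spec

set_option linter.unusedSectionVars false
set_option linter.unusedVariables false
set_option linter.unusedSimpArgs false
set_option autoImplicit false
set_option linter.style.haveILetI false
set_option maxHeartbeats 400000

noncomputable section

namespace Groth.Agent.Lib.Helper6.UncPts

open AlgebraicGeometry CategoryTheory

universe u

/-- irreducible sets are contained in the closure of their trace on an open set meeting them -/
theorem subset_closure_inter_of_isIrreducible {X : Type*} [TopologicalSpace X] {T U : Set X}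
    (hT : IsPreirreducible T) (hU : IsOpen U) (hne : (T ∩ U).Nonempty) :
    T ⊆ closure (T ∩ U) := by
  intro x hx
  rw [mem_closure_iff]
  intro V hV hxV
  obtain ⟨y, hyT, hyV, hyU⟩ := hT V U hV hU ⟨x, hx, hxV⟩ hne
  exact ⟨y, hyV, hyT, hyU⟩

theorem exists_closedPoint_avoiding (k : Type u) [Field k] [Uncountable k]
    (X : Scheme.{u}) (sX : X ⟶ Spec (CommRingCat.of k)) [LocallyOfFiniteType sX]
    (T : Set X) (hT : IsIrreducible T) (hTc : IsClosed T)
    (Z : ℕ → Set X) (hZc : ∀ n, IsClosed (Z n)) (hZ : ∀ n, ¬ T ⊆ Z n) :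
    ∃ x ∈ T, IsClosed ({x} : Set X) ∧ ∀ n, x ∉ Z n := by
  obtain ⟨x₀, hx₀⟩ := hT.nonempty
  obtain ⟨U, hU, hx₀U, -⟩ := exists_isAffineOpen_mem_and_subset (x := x₀) (U := ⊤) trivial
  haveI : JacobsonSpace X := LocallyOfFiniteType.jacobsonSpace sX
  -- the algebra structure
  let φ : CommRingCat.of k ⟶ Γ(X, U) :=
    (Scheme.ΓSpecIso (CommRingCat.of k)).inv ≫ sX.appLE ⊤ U (by simp)
  letI : Algebra k Γ(X, U) := φ.hom.toAlgebra
  haveI : Algebra.FiniteType k Γ(X, U) := by
    have h1 : (sX.appLE ⊤ U (by simp)).hom.FiniteType :=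
      HasRingHomProperty.appLE @LocallyOfFiniteType sX inferInstance
        ⟨⊤, isAffineOpen_top _⟩ ⟨U, hU⟩ (by simp)
    have h2 : ((Scheme.ΓSpecIso (CommRingCat.of k)).inv).hom.FiniteType :=
      RingHom.FiniteType.of_surjective _
        ((ConcreteCategory.bijective_of_isIso (Scheme.ΓSpecIso (CommRingCat.of k)).inv).2)
    exact h1.comp h2
  have hemb : Topology.IsOpenEmbedding hU.fromSpec := hU.fromSpec.isOpenEmbedding
  have hrange : Set.range hU.fromSpec = U := hU.range_fromSpec
  -- pull back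
  let T' : Set (PrimeSpectrum Γ(X, U)) := hU.fromSpec ⁻¹' T
  let Z' : ℕ → Set (PrimeSpectrum Γ(X, U)) := fun n => hU.fromSpec ⁻¹' Z n
  have hT'c : IsClosed T' := hTc.preimage hemb.continuous
  have hZ'c : ∀ n, IsClosed (Z' n) := fun n => (hZc n).preimage hemb.continuous
  have hT'ne : T'.Nonempty := by
    have : x₀ ∈ Set.range hU.fromSpec := by rw [hrange]; exact hx₀U
    obtain ⟨y, hy⟩ := this
    exact ⟨y, by change hU.fromSpec y ∈ T; rw [hy]; exact hx₀⟩
  have hT' : IsIrreducible T' := ⟨hT'ne, hT.isPreirreducible.preimage hemb⟩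
  have hZ' : ∀ n, ¬ T' ⊆ Z' n := by
    intro n hsub
    apply hZ n
    have h1 : T ∩ (U : Set X) ⊆ Z n := by
      rintro x ⟨hxT, hxU⟩
      have : x ∈ Set.range hU.fromSpec := by rw [hrange]; exact hxU
      obtain ⟨y, rfl⟩ := this
      exact hsub hxT
    have h2 := subset_closure_inter_of_isIrreducible hT.isPreirreducible U.isOpen
      ⟨x₀, hx₀, hx₀U⟩
    exact h2.trans ((hZc n).closure_subset_iff.2 h1)
  obtain ⟨y, hyT, hyc, hyZ⟩ := exists_closedPoint_primeSpectrum (k := k) T' hT' hT'c Z' hZ'c hZ'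
  refine ⟨hU.fromSpec y, hyT, ?_, fun n => hyZ n⟩
  have h3 := hemb.preimage_closedPoints
  have h4 : y ∈ closedPoints (Spec Γ(X, U)) := hyc
  rw [← h3] at h4
  exact h4

end Groth.Agent.Lib.Helper6.UncPts
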