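import Groth.Agent.Lib.Helper6.UncPts.Alg

set_option linter.unusedSectionVars false
set_option linter.unusedVariables false
set_option linter.unusedSimpArgs false
set_option autoImplicit false
set_option linter.style.haveILetI false
set_option maxHeartbeats 400000

noncomputable section

namespace Groth.Agent.Lib.Helper6.UncPts

open PrimeSpectrum

theorem exists_closedPoint_primeSpectrum {k A : Type*} [Field k] [Uncountable k] [CommRing A]
    [Algebra k A] [Algebra.FiniteType k A]
    (T : Set (PrimeSpectrum A)) (hT : IsIrreducible T) (hTc : IsClosed T)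
    (Z : ℕ → Set (PrimeSpectrum A)) (hZc : ∀ n, IsClosed (Z n)) (hZ : ∀ n, ¬ T ⊆ Z n) :
    ∃ y ∈ T, IsClosed ({y} : Set (PrimeSpectrum A)) ∧ ∀ n, y ∉ Z n := by
  haveI hP : (vanishingIdeal T).IsPrime := isIrreducible_iff_vanishingIdeal_isPrime.1 hT
  have hTz : zeroLocus (vanishingIdeal T : Set A) = T := by
    rw [zeroLocus_vanishingIdeal_eq_closure, hTc.closure_eq]
  have hZz : ∀ n, zeroLocus (vanishingIdeal (Z n) : Set A) = Z n := fun n => by
    rw [zeroLocus_vanishingIdeal_eq_closure, (hZc n).closure_eq]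
  have hex : ∀ n, ∃ f : A, f ∈ vanishingIdeal (Z n) ∧ f ∉ vanishingIdeal T := by
    intro n
    by_contra hcon
    push_neg at hcon
    apply hZ n
    rw [← hTz, ← hZz n]
    exact zeroLocus_anti_mono (fun f hf => hcon f hf)
  choose f hfZ hfT using hex
  obtain ⟨m, hm, hPm, hfm⟩ := exists_maximal_avoiding (k := k) (vanishingIdeal T) f hfT
  refine ⟨⟨m, hm.isPrime⟩, ?_, ?_, ?_⟩
  · rw [← hTz]
    exact hPm
  · rw [isClosed_singleton_iff_isMaximal]
    exact hm
  · intro n hn
    apply hfm n
    have := (mem_vanishingIdeal _ _).1 (hfZ n) _ hn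
    exact this

end Groth.Agent.Lib.Helper6.UncPts
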