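import Groth.Agent.Lib.Helper6.UncPts.Decomp

set_option linter.unusedSectionVars false
set_option linter.unusedVariables false
set_option linter.unusedSimpArgs false
set_option autoImplicit false
set_option linter.style.haveILetI false
set_option maxHeartbeats 400000

noncomputable section

namespace Groth.Agent.Lib.Helper6.UncPts

open AlgebraicGeometry CategoryTheory TopologicalSpace

universe u

theorem exists_le_of_closedPoints (k : Type u) [Field k] [Uncountable k]
    (X : Scheme.{u}) (sX : X ⟶ Spec (CommRingCat.of k)) [LocallyOfFiniteType sX]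
    (T : Closeds X) (hT : IsIrreducible (T : Set X)) (S' : Set (Closeds X)) (hS' : S'.Countable)
    (h : ∀ x ∈ T, IsClosed ({x} : Set X) → ∃ T' ∈ S', x ∈ T') : ∃ T' ∈ S', T ≤ T' := by
  by_contra hcon
  push_neg at hcon
  haveI : Encodable S' := hS'.toEncodable
  let Z' : ℕ → Set X := fun n =>
    match (Encodable.decode (α := S') n) with
    | some T' => (T'.1 : Set X)
    | none => ∅
  have hZ'c : ∀ n, IsClosed (Z' n) := by
    intro n
    simp only [Z']
    cases Encodable.decode (α := S') n with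
    | some T' => exact T'.1.isClosed
    | none => exact isClosed_empty
  have hZ' : ∀ n, ¬ (T : Set X) ⊆ Z' n := by
    intro n
    simp only [Z']
    cases Encodable.decode (α := S') n with
    | some T' => exact hcon T'.1 T'.2
    | none =>
      intro hsub
      obtain ⟨x, hx⟩ := hT.nonempty
      exact hsub hx
  obtain ⟨x, hxT, hxc, hxZ⟩ := exists_closedPoint_avoiding k X sX (T : Set X) hT T.isClosed
    Z' hZ'c hZ'
  obtain ⟨T', hT'S, hxT'⟩ := h x hxT hxc
  apply hxZ (Encodable.encode (⟨T', hT'S⟩ : S'))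
  simp only [Z', Encodable.encodek]
  exact hxT'

/-- uniqueness half -/
theorem subset_of_same_closedPoints (k : Type u) [Field k] [Uncountable k]
    (X : Scheme.{u}) (sX : X ⟶ Spec (CommRingCat.of k)) [LocallyOfFiniteType sX]
    (S S' : Set (Closeds X)) (hSc : S.Countable) (hS'c : S'.Countable)
    (hSirr : ∀ T ∈ S, IsIrreducible (T : Set X)) (hS'irr : ∀ T ∈ S', IsIrreducible (T : Set X))
    (hSa : IsAntichain (· ≤ ·) S)
    (hpts : {x : X | IsClosed ({x} : Set X) ∧ ∃ T ∈ S, x ∈ T} =
      {x : X | IsClosed ({x} : Set X) ∧ ∃ T ∈ S', x ∈ T}) : S ⊆ S' := by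
  intro T hT
  obtain ⟨T', hT'S', hTT'⟩ := exists_le_of_closedPoints k X sX T (hSirr T hT) S' hS'c (by
    intro x hxT hxc
    have : x ∈ {x : X | IsClosed ({x} : Set X) ∧ ∃ T ∈ S, x ∈ T} := ⟨hxc, T, hT, hxT⟩
    rw [hpts] at this
    exact this.2)
  obtain ⟨T'', hT''S, hT'T''⟩ := exists_le_of_closedPoints k X sX T' (hS'irr T' hT'S') S hSc (by
    intro x hxT hxc
    have : x ∈ {x : X | IsClosed ({x} : Set X) ∧ ∃ T ∈ S', x ∈ T} := ⟨hxc, T', hT'S', hxT⟩
    rw [← hpts] at this
    exact this.2)
  have heq : T = T'' := by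
    by_contra hne
    exact hSa hT hT''S hne (hTT'.trans hT'T'')
  have : T = T' := le_antisymm hTT' (heq ▸ hT'T'')
  rw [this]
  exact hT'S'

end Groth.Agent.Lib.Helper6.UncPts
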